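import Cfsg.Agent.Lib.Helper16.F4CC.PartB
import Cfsg.Agent.Lib.Helper16.StCCPartB
import Cfsg.Agent.Lib.Helper25.F4CCFA
import Cfsg.Agent.Lib.Helper20.F4CCFA6
import Cfsg.Agent.Lib.Helper14.StCC.SectionCore
import Cfsg.Agent.Lib.Helper20.StCCBB0

set_option autoImplicit false

/-! Steinberg's Theorem 10 over a field with at least three elements, generic in the datum `D`
(one of the seven types): every central extension of the group presented by (R1), (R2) splits,
GIVEN the two table facts `CommData1` (with a coweight of value `1`) for every root and `PerpP` for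
every admissible ordered pair of roots, and perfectness of the presented group. -/

namespace Cfsg.Agent.Lib.Helper16.F4CC

open Cfsg.Lie Cfsg.Agent.Lib.Helper8.Chev Cfsg.Agent.Lib.Helper14.StCC

variable {D : ChevalleyDatum} {K : Type*} [Field K] {Γ : Type*} [Group Γ] {E : Type*} [Group E]

/-- PART B, `|K| ≥ 3`, generic: the lifts satisfy the commutator relations (R2), from the table
`PerpP` alone (the shape table is known for the seven types). -/
theorem comm_gen (S : StRep D K Γ) (hK3 : ∃ c : K, c ≠ 0 ∧ c ≠ 1)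
    (ψ : E →* Γ) (hψ : Function.Surjective ψ) (hc : ψ.ker ≤ Subgroup.center E)
    (L : RootLift S ψ)
    (hperp : ∀ r s : ℕ, r < D.nroots → s < D.nroots → s ≠ r → s ≠ D.neg r → PerpP D r s) :
    ∀ r < D.nroots, ∀ s < D.nroots, s ≠ r → s ≠ D.neg r → ∀ t u : K,
      L.φ s u * L.φ r t = L.φ r t * L.φ s u * wS L.φ (D.commWord K r s t u) :=
  comm_of_perpP S hK3 ψ hψ hc L
    (fun _ _ hr hs h1 h2 => B.Helper16.shapeP_all S.hD hr hs h1 h2) hperp
    (fun m _ _ hr hs h1 h2 _ hc' => B.wt_commTerms S.hD m hr hs h1 h2 hc')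

/-- every central extension of the group of type `D` presented by (R1), (R2) over a field with at
least three elements splits, given the two tables -/
theorem exists_section_gen (hD : D ∈ [chevG2, chevB2, chevD4, chevF4, chevE6, chevE7, chevE8])
    (hK3 : ∃ c : K, c ≠ 0 ∧ c ≠ 1)
    (hperf : commutator (D.SteinbergCover K) = ⊤)
    (hcd : ∀ r < D.nroots, (∃ m : ℕ → ℤ, wt D m r = 1) ∧ CommData1 D r)
    (hperp : ∀ r s : ℕ, r < D.nroots → s < D.nroots → s ≠ r → s ≠ D.neg r → PerpP D r s)
    (ψ : E →* D.SteinbergCover K)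
    (hψ : Function.Surjective ψ) (hc : ψ.ker ≤ Subgroup.center E) :
    ∃ τ : D.SteinbergCover K →* E, ψ.comp τ = MonoidHom.id _ := by
  obtain ⟨L⟩ := exists_rootLift_of
    (scRepOf hD (scHom hD K) (fun r t hr => scHom_scGen hD r t hr)) hK3 hperf ψ hψ hc
    (fun r hr => lifts_commute_of_commData1 _ ψ hψ hc hr (hcd r hr).2)
    (fun r hr => (hcd r hr).1)
  exact exists_section_of hD ψ L (comm_gen _ hK3 ψ hψ hc L hperp)

end Cfsg.Agent.Lib.Helper16.F4CC
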