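import Cfsg.Agent.Lib.Helper16.StCCB.Defs

set_option autoImplicit false

/-! S2103 (the Schur multiplier of `F₄(q)`, `q ≥ 3`, is trivial): Steinberg's Theorem 10 for type
`F₄` over every field with at least three elements.  Shared definitions (architect helper16).

Differences from the `|K| > 4` proof: (Part A) the lifts of `x_r(t)`, `x_r(u)` commute because
`x_r(u)` is a commutator of root elements commuting with `x_r(t)` (`CommData1`); (Part B) a torus
element centralising `x_r` acts on `x_s` by `v ^ e` with `e = ±1` (always usable) or `e = ±2`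
(usable when some `v² ≠ 1`); over `F₃` the remaining pairs commute by the same commutator trick
(`DecP`). -/

namespace Cfsg.Agent.Lib.Helper16.F4CC

open Cfsg.Lie Cfsg.Agent.Lib.Helper8.Chev Cfsg.Agent.Lib.Helper14.StCC

/-- the root `r` is the single term, with coefficient `±1`, of the commutator formula of a pair
`(a, b)` of roots both commuting with `r` -/
def CommData1 (D : ChevalleyDatum) (r : ℕ) : Prop :=
  ∃ (a b : ℕ) (ε : ℤ), a < D.nroots ∧ b < D.nroots ∧ b ≠ a ∧ b ≠ D.neg a ∧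
    D.commTerms a b = [(r, ε, 1, 1)] ∧ (ε = 1 ∨ ε = -1) ∧
    (a ≠ r ∧ a ≠ D.neg r ∧ D.commTerms r a = []) ∧
    (b ≠ r ∧ b ≠ D.neg r ∧ D.commTerms r b = [])

/-- the root `s` is the single term, with coefficient `±1` or `±2`, of the commutator formula of a
pair `(a, b)` of roots both commuting with `r` -/
def DecP (D : ChevalleyDatum) (r s : ℕ) : Prop :=
  ∃ (a b : ℕ) (N : ℤ), a < D.nroots ∧ b < D.nroots ∧ b ≠ a ∧ b ≠ D.neg a ∧
    D.commTerms a b = [(s, N, 1, 1)] ∧ (N = 1 ∨ N = -1 ∨ N = 2 ∨ N = -2) ∧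
    (a ≠ r ∧ a ≠ D.neg r ∧ D.commTerms r a = []) ∧
    (b ≠ r ∧ b ≠ D.neg r ∧ D.commTerms r b = [])

/-- the table fact of Part B for the ordered pair `(r, s)` -/
def PerpP (D : ChevalleyDatum) (r s : ℕ) : Prop :=
  (∃ m : ℕ → ℤ, wt D m r = 0 ∧ (wt D m s = 1 ∨ wt D m s = -1)) ∨
  ((∃ m : ℕ → ℤ, wt D m r = 0 ∧ (wt D m s = 2 ∨ wt D m s = -2)) ∧
    D.commTerms r s = [] ∧ D.commTerms s r = [] ∧ DecP D r s)

end Cfsg.Agent.Lib.Helper16.F4CC
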