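import Cfsg.Agent.Lib.Helper16.F4CC.Defs
import Cfsg.Agent.Lib.Helper16.StCCB.AsmGen
import Cfsg.Agent.Lib.Helper26.StCCGen

set_option autoImplicit false

/-! S2103, Part B for a datum with the table fact `PerpP` and a field with at least three
elements: the lifts of a `RootLift` satisfy the commutator relations (R2). -/

namespace Cfsg.Agent.Lib.Helper16.F4CC

open Cfsg.Lie Cfsg.Agent.Lib.Helper8.Chev Cfsg.Agent.Lib.Helper14.StCC
open Cfsg.Agent.Lib.Helper14.StCC.B Cfsg.Agent.Lib.Helper26.StCC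
open scoped commutatorElement

variable {D : ChevalleyDatum} {K : Type*} [Field K] {Γ : Type*} [Group Γ] {E : Type*} [Group E]

/-- root elements of `Γ` for an admissible pair without commutator terms commute -/
theorem x_comm_of_nil (S : StRep D K Γ) {r a : ℕ} (hr : r < D.nroots) (ha : a < D.nroots)
    (h1 : a ≠ r) (h2 : a ≠ D.neg r) (hT : D.commTerms r a = []) (t x : K) :
    S.x r t * S.x a x = S.x a x * S.x r t := by
  have := S.comm r hr a ha h1 h2 t x
  rw [ChevalleyDatum.commWord, hT] at this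
  simpa using this.symm

/-- the commutator trick for a pair `(r, s)`: if `x_s(u)` is a commutator of root elements
commuting with `x_r(t)`, the lifts commute -/
theorem commP_of_dec (S : StRep D K Γ) (ψ : E →* Γ) (hc : ψ.ker ≤ Subgroup.center E)
    (L : RootLift S ψ) {r s : ℕ} (hr : r < D.nroots) (hs : s < D.nroots) (h2K : (2 : K) ≠ 0)
    (hd : DecP D r s) : CommP L.φ r s := by
  obtain ⟨a, b, N, ha, hb, hba, hbna, hT, hN, ⟨har, hanr, hTa⟩, ⟨hbr, hbnr, hTb⟩⟩ := hd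
  have hN0 : (N : K) ≠ 0 := by
    rcases hN with rfl | rfl | rfl | rfl
    · simp
    · simp
    · simpa using h2K
    · simpa using h2K
  intro t u
  set x : K := -(u / N) with hx
  -- in `Γ`: `x_s(u) = ⁅x_b(1)⁻¹, x_a(x)⁻¹⁆`
  have hrel := S.comm a ha b hb hba hbna x 1
  rw [ChevalleyDatum.commWord, hT] at hrel
  simp only [List.map_cons, List.map_nil, wS_cons, wS_nil, mul_one, pow_one, one_pow] at hrel
  have hval : (N : K) * -x = u := by
    rw [hx, neg_neg]; field_simp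
  rw [hval] at hrel
  have hxs : S.x s u = ⁅(S.x b 1)⁻¹, (S.x a x)⁻¹⁆ := by
    rw [commutatorElement_def, inv_inv, inv_inv]
    calc S.x s u = (S.x a x * S.x b 1)⁻¹ * (S.x a x * S.x b 1 * S.x s u) := by group
      _ = (S.x a x * S.x b 1)⁻¹ * (S.x b 1 * S.x a x) := by rw [← hrel]
      _ = _ := by group
  set p : E := (L.φ b 1)⁻¹ with hp
  set q : E := (L.φ a x)⁻¹ with hq
  have hψpq : ψ ⁅p, q⁆ = ψ (L.φ s u) := by
    rw [map_commutatorElement, hp, hq, map_inv, map_inv, L.map b hb, L.map a ha, L.map s hs, hxs]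
  -- `φ_r t` commutes with `⁅p, q⁆`
  have h1 : ψ (L.φ r t) * ψ p = ψ p * ψ (L.φ r t) := by
    rw [hp, map_inv, L.map r hr, L.map b hb]
    have := x_comm_of_nil S hr hb hbr hbnr hTb t 1
    calc S.x r t * (S.x b 1)⁻¹ = (S.x b 1)⁻¹ * (S.x b 1 * S.x r t) * (S.x b 1)⁻¹ := by group
      _ = (S.x b 1)⁻¹ * (S.x r t * S.x b 1) * (S.x b 1)⁻¹ := by rw [this]
      _ = _ := by group
  have h2 : ψ (L.φ r t) * ψ q = ψ q * ψ (L.φ r t) := by
    rw [hq, map_inv, L.map r hr, L.map a ha]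
    have := x_comm_of_nil S hr ha har hanr hTa t x
    calc S.x r t * (S.x a x)⁻¹ = (S.x a x)⁻¹ * (S.x a x * S.x r t) * (S.x a x)⁻¹ := by group
      _ = (S.x a x)⁻¹ * (S.x r t * S.x a x) * (S.x a x)⁻¹ := by rw [this]
      _ = _ := by group
  have h3 := commute_comm_of_commute ψ hc h1 h2
  -- `φ_s u = ⁅p, q⁆ * z` with `z` central
  have hz : ⁅p, q⁆⁻¹ * L.φ s u ∈ Subgroup.center E := hc (by
    rw [MonoidHom.mem_ker, map_mul, map_inv, hψpq, inv_mul_cancel])
  rw [Subgroup.mem_center_iff] at hz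
  have hz' := hz (L.φ r t)
  calc L.φ r t * L.φ s u = L.φ r t * ⁅p, q⁆ * (⁅p, q⁆⁻¹ * L.φ s u) := by group
    _ = ⁅p, q⁆ * (L.φ r t * (⁅p, q⁆⁻¹ * L.φ s u)) := by rw [h3]; group
    _ = ⁅p, q⁆ * ((⁅p, q⁆⁻¹ * L.φ s u) * L.φ r t) := by rw [hz']
    _ = L.φ s u * L.φ r t := by group

/-- Part B from the table facts `ShapeP`, `PerpP` over a field with at least three elements -/
theorem comm_of_perpP (S : StRep D K Γ) (hK3 : ∃ c : K, c ≠ 0 ∧ c ≠ 1)
    (ψ : E →* Γ) (hψ : Function.Surjective ψ) (hc : ψ.ker ≤ Subgroup.center E)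
    (L : RootLift S ψ)
    (hshape : ∀ r s : ℕ, r < D.nroots → s < D.nroots → s ≠ r → s ≠ D.neg r → ShapeP D r s)
    (hperp : ∀ r s : ℕ, r < D.nroots → s < D.nroots → s ≠ r → s ≠ D.neg r → PerpP D r s)
    (hwt : ∀ (m : ℕ → ℤ) (r s : ℕ), r < D.nroots → s < D.nroots → s ≠ r → s ≠ D.neg r →
      ∀ c ∈ D.commTerms r s, c.1 < D.nroots ∧
        wt D m c.1 = (c.2.2.1 : ℤ) * wt D m r + (c.2.2.2 : ℤ) * wt D m s) :
    ∀ r < D.nroots, ∀ s < D.nroots, s ≠ r → s ≠ D.neg r → ∀ t u : K,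
      L.φ s u * L.φ r t = L.φ r t * L.φ s u * wS L.φ (D.commWord K r s t u) := by
  obtain ⟨c, hc0, hc1⟩ := hK3
  have hcinv : c⁻¹ ≠ 1 := by
    intro h; apply hc1; rw [← inv_inv c, h, inv_one]
  apply comm_main_gen S ψ hψ hc L hshape _ hwt
  intro r s hr hs h1 h2
  rcases hperp r s hr hs h1 h2 with ⟨m, hm0, hm1⟩ | ⟨⟨m, hm0, hm2⟩, hT, hT', hdec⟩
  · left
    refine ⟨m, c, hm0, hc0, ?_⟩
    rcases hm1 with h | h
    · rw [h, zpow_one]; exact hc1
    · rw [h, zpow_neg, zpow_one]; exact hcinv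
  · by_cases hv : ∃ v : K, v ≠ 0 ∧ v ^ 2 ≠ 1
    · obtain ⟨v, hv0, hv2⟩ := hv
      left
      refine ⟨m, v, hm0, hv0, ?_⟩
      rcases hm2 with h | h
      · rw [h]; exact_mod_cast hv2
      · rw [h, zpow_neg]
        intro h'
        apply hv2
        have : (v ^ (2 : ℤ))⁻¹ = 1 := h'
        rw [inv_eq_one] at this
        exact_mod_cast this
    · right
      have hv' : ∀ v : K, v ≠ 0 → v ^ 2 = 1 := by
        intro v hv0
        by_contra h
        exact hv ⟨v, hv0, h⟩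
      have h2K : (2 : K) ≠ 0 := by
        intro h2
        have hcc := hv' c hc0
        -- (c - 1)^2 = c^2 - 2c + 1 = 2 - 2c = 0
        have : (c - 1) ^ 2 = 0 := by
          have : (c - 1) ^ 2 = c ^ 2 - 2 * c + 1 := by ring
          rw [this, hcc, h2]; ring_nf
          linear_combination h2
        exact hc1 (sub_eq_zero.mp ((pow_eq_zero_iff two_ne_zero).mp this))
      exact ⟨hT, hT', commP_of_dec S ψ hc L hr hs h2K hdec⟩

end Cfsg.Agent.Lib.Helper16.F4CC
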