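import Cfsg.Agent.Lib.Helper16.F4CC.PartB
import Cfsg.Agent.Lib.Helper25.F4CCFA
import Cfsg.Agent.Lib.Helper20.F4CCFT1
import Cfsg.Agent.Lib.Helper20.F4CCFA6
import Cfsg.Agent.Lib.Helper9.F4CCFT2
import Cfsg.Agent.Lib.Helper14.StCC.SectionCore
import Cfsg.Agent.Lib.Helper20.StCCBB0
import Cfsg.Agent.Lib.Helper9.StCCBBTSmall
import Cfsg.Agent.S2395

set_option autoImplicit false

/-! S2103: Steinberg's Theorem 10 for type `F₄` over a field with at least three elements: every
central extension of the group presented by (R1), (R2) splits. -/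

namespace Cfsg.Agent.Lib.Helper16.F4CC

open Cfsg.Lie Cfsg.Agent.Lib.Helper8.Chev Cfsg.Agent.Lib.Helper14.StCC

variable {K : Type*} [Field K] {Γ : Type*} [Group Γ] {E : Type*} [Group E]

theorem hD_F4 : chevF4 ∈ [chevG2, chevB2, chevD4, chevF4, chevE6, chevE7, chevE8] := by simp

/-- PART B for `F₄`, `|K| ≥ 3`: the lifts satisfy the commutator relations (R2). -/
theorem comm_F4 (S : StRep chevF4 K Γ) (hK3 : ∃ c : K, c ≠ 0 ∧ c ≠ 1)
    (ψ : E →* Γ) (hψ : Function.Surjective ψ) (hc : ψ.ker ≤ Subgroup.center E)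
    (L : RootLift S ψ) :
    ∀ r < chevF4.nroots, ∀ s < chevF4.nroots, s ≠ r → s ≠ chevF4.neg r → ∀ t u : K,
      L.φ s u * L.φ r t = L.φ r t * L.φ s u * wS L.φ (chevF4.commWord K r s t u) :=
  comm_of_perpP S hK3 ψ hψ hc L (fun _ _ hr hs h1 h2 => B.shapeP_F4 hr hs h1 h2)
    (fun _ _ hr hs h1 h2 => perpP_F4 hr hs h1 h2)
    (fun m _ _ hr hs h1 h2 _ hc' => B.wt_commTerms S.hD m hr hs h1 h2 hc')

/-- every central extension of the group of type `F₄` presented by (R1), (R2) over a field with at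
least three elements splits -/
theorem exists_section_F4 (hK3 : ∃ c : K, c ≠ 0 ∧ c ≠ 1) (ψ : E →* chevF4.SteinbergCover K)
    (hψ : Function.Surjective ψ) (hc : ψ.ker ≤ Subgroup.center E) :
    ∃ τ : chevF4.SteinbergCover K →* E, ψ.comp τ = MonoidHom.id _ := by
  have hperf : commutator (chevF4.SteinbergCover K) = ⊤ :=
    Cfsg.Agent.S2395.result chevF4 hD_F4 (fun h => by
      exfalso
      simp only [List.mem_cons, List.not_mem_nil, or_false] at h
      rcases h with h | h
      · exact absurd (congrArg ChevalleyDatum.nroots h) (by decide)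
      · exact absurd (congrArg ChevalleyDatum.nroots h) (by decide))
  obtain ⟨L⟩ := exists_rootLift_of
    (scRepOf hD_F4 (scHom hD_F4 K) (fun r t hr => scHom_scGen hD_F4 r t hr)) hK3 hperf ψ hψ hc
    (fun r hr => lifts_commute_of_commData1 _ ψ hψ hc hr (commData1_F4 hr).2)
    (fun r hr => (commData1_F4 hr).1)
  exact exists_section_of hD_F4 ψ L (comm_F4 _ hK3 ψ hψ hc L)

end Cfsg.Agent.Lib.Helper16.F4CC
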